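import Cfsg.Agent.Lib.ZJ.Complement

/-!
A finite perfect group cannot have a group of automorphisms, containing all inner ones, in which the
stabiliser of every nontrivial element (up to inversion) is a maximal subgroup.
-/

set_option autoImplicit false

namespace CfsgLib.ExtPrim

open Cfsg

universe u v

variable {M : Type u} {H : Type v} [Group M] [Group H]

/-- The subgroup of `H` fixing a subgroup of `M`. -/
def stabSub (ψ : H →* MulAut M) (X : Subgroup M) : Subgroup H where
  carrier := {h | X.map (ψ h).toMonoidHom = X}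
  one_mem' := by
    show X.map (ψ 1).toMonoidHom = X
    rw [map_one]; exact Subgroup.map_id X
  mul_mem' := by
    intro a b (ha : X.map (ψ a).toMonoidHom = X) (hb : X.map (ψ b).toMonoidHom = X)
    show X.map (ψ (a * b)).toMonoidHom = X
    rw [show (ψ (a * b)).toMonoidHom = (ψ a).toMonoidHom.comp (ψ b).toMonoidHom by rw [map_mul]; rfl,
      ← Subgroup.map_map, hb, ha]
  inv_mem' := by
    intro a (ha : X.map (ψ a).toMonoidHom = X)
    show X.map (ψ a⁻¹).toMonoidHom = X
    conv_lhs => rw [← ha]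
    rw [Subgroup.map_map, show (ψ a⁻¹).toMonoidHom.comp (ψ a).toMonoidHom = MonoidHom.id M by
      ext x; simp, Subgroup.map_id]

theorem map_eq_of_le [Finite M] {X : Subgroup M} (a : MulAut M) (h : ∀ x ∈ X, a x ∈ X) :
    X.map a.toMonoidHom = X := by
  refine Subgroup.eq_of_le_of_card_ge (by rintro _ ⟨x, hx, rfl⟩; exact h x hx) ?_
  exact le_of_eq (Nat.card_congr (X.equivMapOfInjective a.toMonoidHom a.injective).toEquiv)

theorem inn_mem_stabSub_iff {ψ : H →* MulAut M} {inn : M → H} (hinn : ∀ x, ψ (inn x) = MulAut.conj x)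
    {X : Subgroup M} {x : M} : inn x ∈ stabSub ψ X ↔ x ∈ Subgroup.normalizer (X : Set M) := by
  show X.map (ψ (inn x)).toMonoidHom = X ↔ _
  rw [hinn]
  constructor
  · intro h
    rw [Subgroup.mem_normalizer_iff]
    intro y
    constructor
    · intro hy; rw [← h]; exact ⟨y, hy, by simp⟩
    · intro hy
      rw [← h] at hy
      obtain ⟨z, hz, e⟩ := hy
      have : z = y := (MulAut.conj x).injective (by simpa using e)
      exact this ▸ hz
  · intro h
    rw [Subgroup.mem_normalizer_iff] at h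
    ext y
    constructor
    · rintro ⟨z, hz, rfl⟩; exact (h z).1 hz
    · intro hy
      refine ⟨x⁻¹ * y * x, (h _).2 ?_, by simp [mul_assoc]⟩
      simpa [mul_assoc] using hy

/-- The main lemma. -/
theorem no_maximal_stabilizers [Finite M] (ψ : H →* MulAut M) (inn : M → H)
    (hinn : ∀ x, ψ (inn x) = MulAut.conj x) (S : M → Subgroup H)
    (hmax : ∀ m : M, m ≠ 1 → ∀ L, S m ≤ L → L = S m ∨ L = ⊤)
    (hmem : ∀ m x : M, inn x ∈ S m ↔ x * m = m * x)
    (hpow : ∀ (m : M) (i : ℕ), m ^ i ≠ 1 → S m ≤ S (m ^ i))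
    (hpres : ∀ m : M, ∀ h ∈ S m, ψ h m = m ∨ ψ h m = m⁻¹)
    (hc : ∀ x : M, (∀ y, x * y = y * x) → x = 1)
    (p : ℕ) [Fact p.Prime] (hp2 : p ≠ 2) (hp : p ∣ Nat.card M)
    (hnor : ∀ Q : Subgroup M, Q.Normal → IsPGroup p Q → Q = ⊥)
    (hnpc : ¬ HasNormalPComplement p M) : False := by
  classical
  have hpp : p.Prime := Fact.out
  have hne : ∀ m : M, m ≠ 1 → S m ≠ ⊤ := fun m hm e =>
    hm (hc m fun y => ((hmem m y).1 (e ▸ Subgroup.mem_top _)).symm)
  have hcop : ∀ u v : M, u ≠ 1 → v ≠ 1 → Commute u v → (orderOf u).Coprime (orderOf v) → S u = S v := by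
    intro u v hu hv hc' hco
    have huv : u * v ≠ 1 := by
      intro e
      rw [eq_inv_of_mul_eq_one_left e, orderOf_inv, Nat.coprime_self] at hco
      exact hv (orderOf_eq_one_iff.1 hco)
    have key : ∀ a b : M, a ≠ 1 → Commute a b → (orderOf a).Coprime (orderOf b) → a * b ≠ 1 → S (a * b) ≤ S a := by
      intro a b ha hab hco' hab1
      obtain ⟨i, hi1, hi2⟩ := Nat.chineseRemainder hco' 1 0
      have e : (a * b) ^ i = a := by
        rw [hab.mul_pow, pow_eq_pow_iff_modEq.2 hi1, pow_one, pow_eq_pow_iff_modEq.2 hi2, pow_zero, mul_one]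
      have := hpow (a * b) i (by rw [e]; exact ha)
      rwa [e] at this
    have h1 := key u v hu hc' hco huv
    have h2 := key v u hv hc'.symm hco.symm (by rw [← hc'.eq]; exact huv)
    rw [← hc'.eq] at h2
    rcases hmax _ huv _ h1 with e1 | e1
    · rcases hmax _ huv _ h2 with e2 | e2
      · rw [e1, e2]
      · exact absurd e2 (hne v hv)
    · exact absurd e1 (hne u hu)
  let P : Sylow p M := Classical.arbitrary _
  have hPne : (P : Subgroup M) ≠ ⊥ := P.ne_bot_of_dvd_card hp
  have : Nontrivial (P : Subgroup M) := (Subgroup.nontrivial_iff_ne_bot _).2 hPne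
  have : Nontrivial (Subgroup.center (P : Subgroup M)) := P.isPGroup'.center_nontrivial
  obtain ⟨⟨z₀, hz₀⟩, hz₀1⟩ := exists_ne (1 : Subgroup.center (P : Subgroup M))
  set z : M := (z₀ : M) with hzdef
  have hz1 : z ≠ 1 := fun e => hz₀1 (Subtype.ext (Subtype.ext e))
  have hzP : z ∈ (P : Subgroup M) := z₀.2
  set C := Subgroup.centralizer ({z} : Set M) with hCdef
  have hPC : (P : Subgroup M) ≤ C := fun x hx => Subgroup.mem_centralizer_singleton_iff.2
    (congrArg Subtype.val (Subgroup.mem_center_iff.1 hz₀ ⟨x, hx⟩))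
  have hCmem : ∀ x : M, x ∈ C ↔ inn x ∈ S z := fun x => by
    rw [hCdef, Subgroup.mem_centralizer_singleton_iff, hmem]
  have hSC : ∀ h ∈ S z, ∀ x ∈ C, ψ h x ∈ C := by
    intro h hh x hx
    rw [hCdef, Subgroup.mem_centralizer_singleton_iff] at hx ⊢
    have hx' := congrArg (ψ h) hx
    rw [map_mul, map_mul] at hx'
    rcases hpres z h hh with e | e <;> rw [e] at hx'
    · exact hx'
    · exact (Commute.inv_right_iff.1 (show Commute (ψ h x) z⁻¹ from hx')).eq
  have hkill : ∀ X : Subgroup M, IsPGroup p X → X ≠ ⊥ → (∀ h ∈ S z, ∀ x ∈ X, ψ h x ∈ X) →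
      Subgroup.normalizer (X : Set M) ≤ C := by
    intro X hX hX1 hXS x hx
    rcases hmax z hz1 (stabSub ψ X) fun h hh => map_eq_of_le _ (hXS h hh) with e | e
    · rw [hCmem, ← e]; exact (inn_mem_stabSub_iff hinn).2 hx
    · exfalso
      refine hX1 (hnor X (Subgroup.normalizer_eq_top_iff.1 (eq_top_iff.2 fun y _ => ?_)) hX)
      exact (inn_mem_stabSub_iff hinn).1 (e ▸ Subgroup.mem_top _)
  obtain ⟨kz, hkz⟩ : ∃ k, orderOf z = p ^ k := by
    obtain ⟨k, hk⟩ := IsPGroup.iff_orderOf.1 P.isPGroup' ⟨z, hzP⟩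
    exact ⟨k, by rw [← hk, Subgroup.orderOf_mk]⟩
  by_cases hy : ∃ y ∈ C, y ≠ 1 ∧ (orderOf y).Coprime p
  · obtain ⟨y, hyC, hy1, hyp⟩ := hy
    have hSy : ∀ x ∈ (P : Subgroup M), x ≠ 1 → Commute x y → S x = S y := by
      intro x hx hx1 hxy
      obtain ⟨k, hk⟩ := IsPGroup.iff_orderOf.1 P.isPGroup' ⟨x, hx⟩
      rw [Subgroup.orderOf_mk] at hk
      exact hcop x y hx1 hy1 hxy (by rw [hk]; exact (hyp.pow_right k).symm)
    have hzy : S z = S y := hSy z hzP hz1
      (by rw [hCdef, Subgroup.mem_centralizer_singleton_iff] at hyC; exact hyC.symm)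
    have hyc : ∀ w : M, w ∈ C ↔ w * y = y * w := fun w => by rw [hCmem, hzy, hmem]
    have hPcen : ∀ x ∈ (P : Subgroup M), ∀ w ∈ C, w * x = x * w := by
      intro x hx w hw
      by_cases hx1 : x = 1
      · simp [hx1]
      · rw [← hmem, hSy x hx hx1 ((hyc x).1 (hPC hx)), hmem]; exact (hyc w).1 hw
    have hSP : ∀ h ∈ S z, ∀ x ∈ (P : Subgroup M), ψ h x ∈ (P : Subgroup M) := by
      intro h hh x hx
      set Y := (P : Subgroup M).map (ψ h).toMonoidHom
      have hY : IsPGroup p Y := P.isPGroup'.map _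
      have hYC : Y ≤ C := by rintro _ ⟨w, hw, rfl⟩; exact hSC h hh w (hPC hw)
      have hnorm : Y ≤ Subgroup.normalizer ((P : Subgroup M) : Set M) := by
        intro w hw
        rw [Subgroup.mem_normalizer_iff]
        intro v
        constructor
        · intro hv
          rw [hPcen v hv w (hYC hw)]; simpa using hv
        · intro hv
          have := hPcen _ hv w⁻¹ (C.inv_mem (hYC hw))
          have e : v = w * v * w⁻¹ := by
            calc v = w⁻¹ * (w * v * w⁻¹) * w := by group
              _ = w * v * w⁻¹ := by rw [this]; group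
          rw [e]; exact hv
      have hsup : IsPGroup p (Y ⊔ (P : Subgroup M) : Subgroup M) := hY.to_sup_of_normal_right' P.isPGroup' hnorm
      have := P.is_maximal' hsup le_sup_right
      exact this ▸ Subgroup.mem_sup_left ⟨x, hx, rfl⟩
    refine hnpc (hasNormalPComplement_of_normalizer_le_centralizer P fun w hw => ?_)
    rw [Subgroup.mem_centralizer_iff]
    exact fun x hx => (hPcen x hx w (hkill _ P.isPGroup' hPne hSP hw)).symm
  · push Not at hy
    have hC : IsPGroup p C := by
      rw [IsPGroup.iff_orderOf]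
      intro w
      have hw0 : orderOf (w : M) ≠ 0 := (orderOf_pos _).ne'
      set k := (orderOf (w : M)).factorization p with hk
      refine ⟨k, ?_⟩
      rw [← Subgroup.orderOf_coe]
      by_contra hne'
      refine hy ((w : M) ^ (p ^ k)) (C.pow_mem w.2 _) ?_ ?_
      · intro e
        obtain ⟨j, hj, hj'⟩ := (Nat.dvd_prime_pow hpp).1 (orderOf_dvd_of_pow_eq_one e)
        have : j = k := by
          have := hj'
          apply_fun (fun n => n.factorization p) at this
          rw [hpp.factorization_pow] at this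
          simpa [hk] using this.symm
        exact hne' (this ▸ hj')
      · have hd : p ^ k ∣ orderOf (w : M) := Nat.ordProj_dvd _ _
        rw [orderOf_pow_of_dvd (pow_ne_zero _ hpp.ne_zero) hd]
        exact (Nat.coprime_ordCompl hpp hw0).symm
    have hCP : C = (P : Subgroup M) := P.is_maximal' hC hPC
    have hSP : ∀ h ∈ S z, ∀ x ∈ ZJ.zj 0 (P : Subgroup M), ψ h x ∈ ZJ.zj 0 (P : Subgroup M) := by
      intro h hh x hx
      have hP' : (P : Subgroup M).map (ψ h).toMonoidHom = P :=
        map_eq_of_le _ fun w hw => hCP ▸ hSC h hh w (hPC hw)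
      have h2 := ZJ.zj_map 0 (f := (ψ h).toMonoidHom) (ψ h).injective (P : Subgroup M)
      rw [hP'] at h2
      rw [h2]; exact ⟨x, hx, rfl⟩
    have hle := hkill _ (P.isPGroup'.to_le (ZJ.zj_le 0 _)) (ZJ.zj_ne_bot (Or.inl rfl) P.isPGroup' hPne) hSP
    rw [hCP] at hle
    exact hnpc (ZJ.hasNormalPComplement_of_normalizer_zj hp2 (Or.inl rfl) P
      (hasNormalPComplement_of_isPGroup (P.isPGroup'.to_le hle)))

end CfsgLib.ExtPrim
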