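import Cfsg.Agent.Lib.ExtPrim.Abstract
import Cfsg.Agent.Lib.Perm.SocleApps

/-!
Tools for a nonabelian minimal normal subgroup: prescribing projections, permutations of the factors.
-/

set_option autoImplicit false

namespace CfsgLib.ExtPrim

open Cfsg CfsgLib.Socle

universe u

variable {G : Type u} [Group G] {N : Subgroup G}

/-- The image of a subgroup under conjugation. -/
abbrev cj (g : G) (T : Subgroup G) : Subgroup G := T.map (MulAut.conj g).toMonoidHom

theorem cj_mul (g h : G) (T : Subgroup G) : cj (g * h) T = cj g (cj h T) := by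
  ext x; simp [mem_map_conj, mul_assoc]

theorem cj_one (T : Subgroup G) : cj 1 T = T := by
  ext x; simp [mem_map_conj]

theorem cj_inv_cj (g : G) (T : Subgroup G) : cj g⁻¹ (cj g T) = T := by
  rw [← cj_mul, inv_mul_cancel, cj_one]

theorem cj_inj (g : G) {T T' : Subgroup G} (h : cj g T = cj g T') : T = T' := by
  rw [← cj_inv_cj g T, h, cj_inv_cj]

theorem cj_of_mem (D : Data N) {T : Subgroup G} (hT : T ∈ D.s) {n : G} (hn : n ∈ N) : cj n T = T := by
  ext x
  rw [mem_map_conj]
  constructor <;> intro hx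
  · simpa [mul_assoc] using D.norm T hT n hn _ hx
  · simpa [mul_assoc] using D.norm T hT n⁻¹ (N.inv_mem hn) x hx

theorem proj_one_of (D : Data N) {n : G} (hn : n ∈ N) (h : ∀ T ∈ D.s, Data.proj T n = 1) : n = 1 := by
  refine D.centerN n hn fun y hy => ?_
  have : N ≤ Subgroup.centralizer {n} := D.le_of_forall fun T hT x hx => by
    rw [Subgroup.mem_centralizer_singleton_iff]
    have := Data.proj_spec D hT hn x hx
    rw [h T hT, one_mul, inv_one, mul_one, mul_inv_eq_iff_eq_mul] at this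
    exact this.symm
  exact (Subgroup.mem_centralizer_singleton_iff.1 (this hy)).symm

theorem proj_ext (D : Data N) {n m : G} (hn : n ∈ N) (hm : m ∈ N)
    (h : ∀ T ∈ D.s, Data.proj T n = Data.proj T m) : n = m :=
  eq_of_mul_inv_eq_one (proj_one_of D (N.mul_mem hn (N.inv_mem hm)) fun T hT => by
    rw [D.proj_mul hT hn (N.inv_mem hm), D.proj_inv hT hm, h T hT, mul_inv_cancel])

theorem exists_prescribed (D : Data N) (f : Subgroup G → G) (hf : ∀ T ∈ D.s, f T ∈ T) :
    ∃ d ∈ N, ∀ T ∈ D.s, Data.proj T d = f T := by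
  classical
  suffices h : ∀ S : Finset (Subgroup G), S ⊆ D.s →
      ∃ d ∈ N, ∀ T ∈ D.s, Data.proj T d = if T ∈ S then f T else 1 by
    obtain ⟨d, hd, h⟩ := h D.s le_rfl
    exact ⟨d, hd, fun T hT => by rw [h T hT, if_pos hT]⟩
  intro S
  induction S using Finset.induction_on with
  | empty => exact fun _ => ⟨1, N.one_mem, fun T hT => by rw [D.proj_one hT]; simp⟩
  | insert T₀ S hT₀ ih =>
    intro hS
    obtain ⟨d, hd, hd'⟩ := ih ((Finset.subset_insert _ _).trans hS)
    have h0 : T₀ ∈ D.s := hS (Finset.mem_insert_self _ _)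
    refine ⟨d * f T₀, N.mul_mem hd (D.le T₀ h0 (hf T₀ h0)), fun T hT => ?_⟩
    rw [D.proj_mul hT hd (D.le T₀ h0 (hf T₀ h0)), hd' T hT]
    by_cases e : T = T₀
    · subst e; rw [D.proj_of_mem hT (hf T hT)]; simp [hT₀]
    · rw [D.proj_of_other hT h0 (Ne.symm e) (hf T₀ h0)]; simp [e]

theorem eq_one_or_top {X : Type*} [Group X] [IsSimpleGroup X] {Q : Subgroup X} (hQ : Q.Normal) : Q = ⊥ ∨ Q = ⊤ :=
  hQ.eq_bot_or_eq_top

theorem not_pgroup {X : Type*} [Group X] [Finite X] [Nontrivial X] (hc : ∀ x : X, (∀ y, x * y = y * x) → x = 1)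
    (p : ℕ) [Fact p.Prime] : ¬ IsPGroup p X := fun h => by
  have := h.center_nontrivial
  obtain ⟨⟨x, hx⟩, hx1⟩ := exists_ne (1 : Subgroup.center X)
  exact hx1 (Subtype.ext (hc x fun y => (Subgroup.mem_center_iff.1 hx y).symm))

theorem exists_odd_prime {X : Type*} [Group X] [Finite X] [Nontrivial X]
    (hc : ∀ x : X, (∀ y, x * y = y * x) → x = 1) : ∃ p : ℕ, p.Prime ∧ p ≠ 2 ∧ p ∣ Nat.card X := by
  by_contra hno
  push Not at hno
  exact not_pgroup hc 2 (IsPGroup.of_card (Nat.eq_prime_pow_of_unique_prime_dvd (Nat.card_pos (α := X)).ne'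
    fun {d} hd hdvd => by by_contra hd2; exact hno d hd hd2 hdvd))

theorem no_npc {X : Type*} [Group X] [Finite X] [Nontrivial X] (hc : ∀ x : X, (∀ y, x * y = y * x) → x = 1)
    (hperf : commutator X = ⊤) (p : ℕ) [Fact p.Prime] (hp : p ∣ Nat.card X) : ¬ HasNormalPComplement p X := by
  rintro ⟨P, K, hK, hKP⟩
  have hcard := hKP.card_mul
  have hP : IsPGroup p (X ⧸ K) := by
    obtain ⟨k, hk⟩ := P.isPGroup'.exists_card_eq
    refine IsPGroup.of_card (n := k) ?_
    have h2 := Subgroup.card_eq_card_quotient_mul_card_subgroup K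
    rw [← hcard, hk, mul_comm] at h2
    exact (Nat.eq_of_mul_eq_mul_right (Nat.card_pos (α := K)) h2).symm
  have htriv : Subsingleton (X ⧸ K) := by
    by_contra hns
    have : Nontrivial (X ⧸ K) := not_subsingleton_iff_nontrivial.1 hns
    have hnil := hP.isNilpotent
    have hlt := Group.IsSolvable.commutator_lt_top_of_nontrivial (X ⧸ K)
    refine hlt.ne ?_
    rw [← Subgroup.map_top_of_surjective (QuotientGroup.mk' K) (QuotientGroup.mk'_surjective K), ← hperf]
    simp [commutator_def, Subgroup.map_commutator, Subgroup.map_top_of_surjective _ (QuotientGroup.mk'_surjective K)]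
  have h1 : Nat.card (P : Subgroup X) = 1 := by
    have h2 := Subgroup.card_eq_card_quotient_mul_card_subgroup K
    rw [Nat.card_unique (α := X ⧸ K), one_mul, ← hcard] at h2
    exact (mul_eq_left₀ (Nat.card_pos (α := K)).ne').1 h2
  exact P.ne_bot_of_dvd_card hp (Subgroup.eq_bot_of_card_eq _ h1)

theorem normal_pgroup_eq_bot (D : Data N) {p : ℕ} [Fact p.Prime] [Finite G] (Q : Subgroup N) (hQ : Q.Normal)
    (hp : IsPGroup p Q) : Q = ⊥ := by
  rw [Subgroup.eq_bot_iff_forall]
  intro q hq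
  refine Subtype.ext (D.centerN q q.2 fun y hy => ?_)
  have : N ≤ Subgroup.centralizer {(q : G)} := D.le_of_forall fun T hT x hx => by
    set X : Subgroup T := Q.comap (Subgroup.inclusion (D.le T hT)) with hX
    have hXn : X.Normal := hQ.comap _
    have := D.simple T hT
    rcases eq_one_or_top hXn with e | e
    · rw [Subgroup.mem_centralizer_singleton_iff]
      have hxN : x ∈ N := D.le T hT hx
      have hmemQ : (⟨x, hxN⟩ : N) * q * (⟨x, hxN⟩ : N)⁻¹ * q⁻¹ ∈ Q := Q.mul_mem (hQ.conj_mem q hq _) (Q.inv_mem hq)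
      have hmemT : x * (q : G) * x⁻¹ * (q : G)⁻¹ ∈ T := by
        have := T.mul_mem hx (D.norm T hT q q.2 x⁻¹ (T.inv_mem hx))
        simpa [mul_assoc] using this
      have : (⟨_, hmemT⟩ : T) ∈ X := by
        show Subgroup.inclusion (D.le T hT) ⟨_, hmemT⟩ ∈ Q
        exact hmemQ
      rw [e, Subgroup.mem_bot] at this
      have := congrArg Subtype.val this
      simpa [mul_inv_eq_one, mul_inv_eq_iff_eq_mul] using this
    · exfalso
      have hTp : IsPGroup p T := by
        intro t
        obtain ⟨k, hk⟩ := hp ⟨Subgroup.inclusion (D.le T hT) t, (e ▸ Subgroup.mem_top t : t ∈ X)⟩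
        exact ⟨k, Subtype.ext (congrArg (fun z : Q => ((z : N) : G)) hk)⟩
      have := (D.simple T hT).toNontrivial
      exact not_pgroup (fun a ha => Subtype.ext (D.center T hT a a.2 fun b hb => congrArg Subtype.val (ha ⟨b, hb⟩))) p hTp
  exact (Subgroup.mem_centralizer_singleton_iff.1 (this hy)).symm

end CfsgLib.ExtPrim
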