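import Cfsg.Agent.Lib.ExtPrim.Factors

/-!
Extremely primitive groups are of affine type or almost simple.
-/

set_option autoImplicit false

namespace CfsgLib.ExtPrim

open Cfsg CfsgLib.Socle MulAction

universe u v

variable {G : Type u} [Group G] {Ω : Type v} [MulAction G Ω]

/-- `G` has a nonabelian simple normal subgroup with trivial centralizer. -/
abbrev AlmostSimple (G : Type u) [Group G] : Prop := ∃ T : Subgroup G, T.Normal ∧ IsSimpleGroup T ∧ ¬ IsMulCommutative T ∧
  Subgroup.centralizer (T : Set G) = ⊥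

/-- The situation with a nonabelian minimal normal subgroup. -/
structure Setup (N : Subgroup G) (a : Ω) : Prop where
  normal : N.Normal
  ne : N ≠ ⊥
  minimal : ∀ M : Subgroup G, M.Normal → M ≤ N → M = ⊥ ∨ M = N
  trans : ∀ x y : Ω, ∃ m ∈ N, m • x = y
  nab : ¬ IsMulCommutative N
  coatom : IsCoatom (stabilizer G a)
  moved : ∃ b : Ω, b ≠ a
  max : ∀ b : Ω, b ≠ a → ∀ L : Subgroup G, stabilizer G a ⊓ stabilizer G b ≤ L → L ≤ stabilizer G a →
    L = stabilizer G a ⊓ stabilizer G b ∨ L = stabilizer G a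

variable {N : Subgroup G} {a : Ω}

theorem Setup.max' (X : Setup N a) {b : Ω} (hb : b ≠ a) (L : Subgroup (stabilizer G a))
    (h : (stabilizer G b).subgroupOf (stabilizer G a) ≤ L) :
    L = (stabilizer G b).subgroupOf (stabilizer G a) ∨ L = ⊤ := by
  have hle : L.map (stabilizer G a).subtype ≤ stabilizer G a := Subgroup.map_subtype_le L
  rcases X.max b hb (L.map (stabilizer G a).subtype) (fun g hg => Subgroup.mem_map.2 ⟨⟨g, hg.1⟩, h hg.2, rfl⟩) hle with e | e
  · left
    refine le_antisymm (fun g hg => ?_) h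
    have : (g : G) ∈ stabilizer G a ⊓ stabilizer G b := e ▸ Subgroup.mem_map_of_mem _ hg
    exact this.2
  · right
    refine Subgroup.eq_top_iff' L |>.2 fun g => ?_
    obtain ⟨x, hx, hxg⟩ : (g : G) ∈ L.map (stabilizer G a).subtype := e.symm ▸ g.2
    exact (Subtype.ext hxg : x = g) ▸ hx

theorem Setup.stab_decomp (X : Setup N a) (g : G) : ∃ m ∈ N, m * g ∈ stabilizer G a := by
  obtain ⟨m, hm, h⟩ := X.trans (g • a) a
  exact ⟨m, hm, by rw [mem_stabilizer_iff, mul_smul, h]⟩

theorem Setup.factor_trans (X : Setup N a) (D : Data N) {T T' : Subgroup G} (hT : T ∈ D.s) (hT' : T' ∈ D.s) :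
    ∃ h ∈ stabilizer G a, cj h T = T' := by
  obtain ⟨g, rfl⟩ := D.trans T hT T' hT'
  obtain ⟨m, hm, h⟩ := X.stab_decomp g
  exact ⟨m * g, h, by rw [cj_mul, cj_of_mem D (D.conj T hT g) hm]⟩

theorem Setup.not_le (X : Setup N a) : ¬ N ≤ stabilizer G a := fun h => by
  obtain ⟨b, hb⟩ := X.moved
  obtain ⟨m, hm, rfl⟩ := X.trans a b
  exact hb (h hm)

theorem center_sub (D : Data N) : ∀ x : N, (∀ y : N, x * y = y * x) → x = 1 := fun x hx =>
  Subtype.ext (D.centerN x x.2 fun y hy => congrArg Subtype.val (hx ⟨y, hy⟩))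

theorem Setup.perfect (X : Setup N a) : commutator N = ⊤ := by
  have := X.normal
  have hn : ((commutator N).map N.subtype).Normal := by
    rw [commutator_def, Subgroup.map_commutator, ← MonoidHom.range_eq_map, Subgroup.range_subtype]
    exact Subgroup.commutator_normal N N
  rcases X.minimal _ hn (Subgroup.map_subtype_le _) with e | e
  · exfalso
    rw [Subgroup.map_eq_bot_iff_of_injective _ N.subtype_injective, commutator_eq_bot_iff] at e
    exact X.nab e
  · refine Subgroup.map_injective N.subtype_injective ?_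
    rw [e, ← MonoidHom.range_eq_map, Subgroup.range_subtype]

/-- The regular case with a second minimal normal subgroup. -/
theorem Setup.regular_false [Finite G] (X : Setup N a) (D : Data N) (hreg : N ⊓ stabilizer G a = ⊥)
    (hC : ∀ x y : Ω, ∃ c ∈ Subgroup.centralizer (N : Set G), c • x = y) : False := by
  have := X.normal
  set H := stabilizer G a with hH
  have hfree : ∀ n ∈ N, n • a = a → n = 1 := fun n hn h => Subgroup.mem_bot.1 (hreg ▸ ⟨hn, h⟩)
  choose c hc1 hc2 using fun n : N => hC a ((n : G)⁻¹ • a)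
  have hinnH : ∀ n : N, (n : G) * c n ∈ H := fun n => by
    rw [hH, mem_stabilizer_iff, mul_smul, hc2, smul_inv_smul]
  let ψ : H →* MulAut N := (MulAut.conjNormal (H := N)).comp H.subtype
  let inn : N → H := fun n => ⟨(n : G) * c n, hinnH n⟩
  have hinn : ∀ n : N, ψ (inn n) = MulAut.conj n := by
    intro n
    ext x
    show (n : G) * c n * (x : G) * ((n : G) * c n)⁻¹ = (n : G) * (x : G) * (n : G)⁻¹
    have h := Subgroup.mem_centralizer_iff.1 (hc1 n) x x.2
    rw [mul_assoc (n : G) (c n) (x : G), ← h]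
    group
  let S : N → Subgroup H := fun n => (stabilizer G ((n : G) • a)).subgroupOf H
  have hS : ∀ (n : N) (h : H), h ∈ S n ↔ ψ h n = n := by
    intro n h
    have hha : (h : G) • a = a := h.2
    show (h : G) • (n : G) • a = (n : G) • a ↔ _
    have e : ((ψ h n : N) : G) • a = (h : G) • (n : G) • a := by
      show ((h : G) * (n : G) * (h : G)⁻¹) • a = _
      rw [mul_smul, mul_smul, inv_smul_eq_iff.2 hha.symm]
    rw [← e]
    refine ⟨fun he => Subtype.ext ?_, fun he => by rw [he]⟩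
    have := hfree ((n : G)⁻¹ * (ψ h n : N)) (N.mul_mem (N.inv_mem n.2) (ψ h n).2)
      (by rw [mul_smul, he, inv_smul_smul])
    exact (inv_mul_eq_one.1 this).symm
  have hmem : ∀ m x : N, inn x ∈ S m ↔ x * m = m * x := fun m x => by
    rw [hS, hinn, MulAut.conj_apply, mul_inv_eq_iff_eq_mul]
  have hne : N ≠ ⊥ := X.ne
  have : Nontrivial N := (Subgroup.nontrivial_iff_ne_bot N).2 hne
  obtain ⟨p, hp, hp2, hpd⟩ := exists_odd_prime (center_sub D)
  have := Fact.mk hp
  refine no_maximal_stabilizers ψ inn hinn S ?_ hmem ?_ ?_ (center_sub D) p hp2 hpd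
    (fun Q hQ hQp => normal_pgroup_eq_bot D Q hQ hQp) (no_npc (center_sub D) X.perfect p hpd)
  · intro m hm
    exact X.max' fun e => hm (Subtype.ext (hfree _ m.2 e))
  · intro m i _ h hh
    rw [hS] at hh ⊢
    rw [map_pow, hh]
  · exact fun m h hh => Or.inl ((hS m h).1 hh)

/-- A regular minimal normal subgroup with several factors and trivial centralizer. -/
theorem Setup.twisted_false [Finite G] (X : Setup N a) (D : Data N) (hreg : N ⊓ stabilizer G a = ⊥)
    (hk : 2 ≤ D.s.card) : False := by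
  classical
  have := X.normal
  set H := stabilizer G a with hH
  have hfree : ∀ n ∈ N, n • a = a → n = 1 := fun n hn h => Subgroup.mem_bot.1 (hreg ▸ ⟨hn, h⟩)
  have hfix : ∀ n ∈ N, ∀ h ∈ H, h • n • a = n • a → h * n * h⁻¹ = n := by
    intro n hn h hh he
    have h1 : h⁻¹ • a = a := inv_smul_eq_iff.2 (show a = h • a from (show h • a = a from hh).symm)
    exact (inv_mul_eq_one.1 (hfree (n⁻¹ * (h * n * h⁻¹)) (N.mul_mem (N.inv_mem hn) (X.normal.conj_mem n hn h))
      (by rw [mul_smul, mul_smul, mul_smul, h1, he, inv_smul_smul]))).symm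
  obtain ⟨T₁, hT₁⟩ := D.nonempty
  obtain ⟨T₂, hT₂, h12⟩ := Finset.exists_mem_ne hk T₁
  -- elements of `H` normalising a factor centralise it
  have hcent : ∀ h ∈ H, cj h T₁ = T₁ → ∀ t ∈ T₁, h * t * h⁻¹ = t := by
    intro h hh hT t ht
    by_cases ht1 : t = 1
    · simp [ht1]
    have htN := D.le T₁ hT₁ ht
    let L : Subgroup G :=
      { carrier := {g | g ∈ H ∧ cj g T₁ = T₁}
        one_mem' := ⟨H.one_mem, cj_one _⟩
        mul_mem' := fun {x y} hx hy => ⟨H.mul_mem hx.1 hy.1, by rw [cj_mul, hy.2, hx.2]⟩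
        inv_mem' := fun {x} hx => ⟨H.inv_mem hx.1, by conv_lhs => rw [← hx.2, cj_inv_cj]⟩ }
    have hta : t • a ≠ a := fun e => ht1 (hfree t htN e)
    have hle : H ⊓ stabilizer G (t • a) ≤ L := by
      intro g hg
      have e := hfix t htN g hg.1 hg.2
      refine ⟨hg.1, ?_⟩
      by_contra hne
      have e2 : g⁻¹ * t * g = t := by nth_rewrite 1 [← e]; group
      exact ht1 (D.eq_one_of_mem_two hT₁ (D.conj T₁ hT₁ g) (Ne.symm hne) ht
        (mem_map_conj.2 (by rw [e2]; exact ht)))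
    rcases X.max _ hta L hle (fun g hg => hg.1) with e | e
    · exact hfix t htN h hh ((e ▸ (⟨hh, hT⟩ : h ∈ L) : h ∈ H ⊓ stabilizer G (t • a)).2)
    · obtain ⟨g, hg, hgT⟩ := X.factor_trans D hT₁ hT₂
      exact absurd (hgT.symm.trans (e.symm ▸ hg : g ∈ L).2) h12
  obtain ⟨t, ht, ht1⟩ := D.exists_ne hT₁
  choose hsel hsel1 hsel2 using fun T : {T // T ∈ D.s} => X.factor_trans D hT₁ T.2
  let f : Subgroup G → G := fun T => if hT : T ∈ D.s then hsel ⟨T, hT⟩ * t * (hsel ⟨T, hT⟩)⁻¹ else 1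
  have hval : ∀ h ∈ H, ∀ T ∈ D.s, cj h T₁ = T → f T = h * t * h⁻¹ := by
    intro h hh T hT he
    simp only [f, dif_pos hT]
    have h1 := hsel1 ⟨T, hT⟩
    have h2 := hsel2 ⟨T, hT⟩
    set g := hsel ⟨T, hT⟩
    have := hcent (h⁻¹ * g) (H.mul_mem (H.inv_mem hh) h1)
      (by rw [cj_mul, h2]; exact he ▸ cj_inv_cj h T₁) t ht
    calc g * t * g⁻¹ = h * (h⁻¹ * g * t * (h⁻¹ * g)⁻¹) * h⁻¹ := by group
      _ = _ := by rw [this]
  have hf : ∀ T ∈ D.s, f T ∈ T := by
    intro T hT
    obtain ⟨h, hh, rfl⟩ := X.factor_trans D hT₁ hT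
    rw [hval h hh _ hT rfl]
    exact mem_map_conj.2 (by simpa [mul_assoc] using ht)
  obtain ⟨d, hd, hdp⟩ := exists_prescribed D f hf
  have hdcomm : ∀ h ∈ H, h * d * h⁻¹ = d := by
    intro h hh
    refine proj_ext D (X.normal.conj_mem d hd h) hd fun T hT => ?_
    have hT' : cj h⁻¹ T ∈ D.s := D.conj T hT h⁻¹
    have hTT : cj h (cj h⁻¹ T) = T := by rw [← cj_mul, mul_inv_cancel, cj_one]
    have := D.proj_conj hT' hd h
    rw [show Subgroup.map (MulAut.conj h).toMonoidHom (cj h⁻¹ T) = T from hTT] at this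
    rw [this, hdp _ hT', hdp T hT]
    obtain ⟨g, hg, hgT⟩ := X.factor_trans D hT₁ hT'
    rw [hval g hg _ hT' hgT, hval (h * g) (H.mul_mem hh hg) T hT (by rw [cj_mul, hgT, hTT])]
    group
  have hd1 : d ≠ 1 := fun e => ht1 (by
    have h3 := hdp T₁ hT₁
    rw [e, D.proj_one hT₁, hval 1 H.one_mem T₁ hT₁ (cj_one _)] at h3
    simpa using h3.symm)
  have hda : d • a ≠ a := fun e => hd1 (hfree d hd e)
  obtain ⟨g, hg, hgT⟩ := X.factor_trans D hT₁ hT₂
  have hle : H ≤ stabilizer G (d • a) := fun h hh => by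
    show h • d • a = d • a
    conv_lhs => rw [← mul_smul, show h * d = (h * d * h⁻¹) * h by group, hdcomm h hh, mul_smul, hh]
  rcases X.coatom.le_iff.1 hle with e | e
  · obtain ⟨b, hb⟩ := X.moved
    obtain ⟨m, hm, rfl⟩ := X.trans a b
    apply hb
    have h4 : ∀ x : G, x • d • a = d • a := fun x => (e.ge (Subgroup.mem_top x))
    obtain ⟨m', -, hm'⟩ := X.trans (d • a) a
    exact absurd ((h4 m').symm.trans hm') hda
  · -- `d` normalises `H`
    have hN : d ∈ Subgroup.normalizer (H : Set G) := by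
      rw [Subgroup.mem_normalizer_iff]
      intro x
      show x • a = a ↔ d * x * d⁻¹ ∈ H
      rw [hH, ← e]
      show x • a = a ↔ (d * x * d⁻¹) • d • a = d • a
      rw [mul_smul, mul_smul, inv_smul_smul, smul_left_cancel_iff]
    rcases X.coatom.le_iff.1 (Subgroup.le_normalizer (H := H)) with e' | e'
    · have : H.Normal := Subgroup.normalizer_eq_top_iff.1 e'
      rcases X.minimal (H ⊓ N) inferInstance inf_le_right with e2 | e2
      · have hT := cj_of_mem D hT₁ (N.one_mem)
        have hHN : ∀ h ∈ H, ∀ n ∈ N, h * n * h⁻¹ = n := by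
          intro h hh n hn
          have h5 : h * n * h⁻¹ * n⁻¹ ∈ H ⊓ N := ⟨by
            have := H.mul_mem hh (this.conj_mem h⁻¹ (H.inv_mem hh) n)
            simpa [mul_assoc] using this, N.mul_mem (X.normal.conj_mem n hn h) (N.inv_mem hn)⟩
          rw [e2, Subgroup.mem_bot, mul_inv_eq_one] at h5
          exact h5
        exact h12 (hgT ▸ by
          ext x
          rw [mem_map_conj]
          constructor <;> intro hx
          · have := hHN g hg _ (D.le T₁ hT₁ hx)
            rw [show g * (g⁻¹ * x * g) * g⁻¹ = x by group] at this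
            exact this ▸ hx
          · have := hHN g hg x (D.le T₁ hT₁ hx)
            have e2 : g⁻¹ * x * g = x := by nth_rewrite 1 [← this]; group
            rwa [e2])
      · exact X.not_le (e2 ▸ inf_le_left)
    · rw [e'] at hN
      exact hda hN

/-- A set of factors moved by some element of `H` cannot be preserved by a point stabiliser. -/
theorem Setup.kill [Finite G] (X : Setup N a) (D : Data N) (hD0 : N ⊓ stabilizer G a ≠ ⊥)
    {b : Ω} (hb : b ≠ a) (S : Finset (Subgroup G)) (hS : S ⊆ D.s) (hne : S.Nonempty) (hSne : ∃ T ∈ D.s, T ∉ S)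
    (hpres : ∀ h ∈ stabilizer G a, h • b = b → ∀ T ∈ S, cj h T ∈ S) : False := by
  classical
  set H := stabilizer G a with hH
  let L : Subgroup G :=
    { carrier := {g | g ∈ H ∧ S.image (cj g) = S}
      one_mem' := ⟨H.one_mem, by rw [show cj (1 : G) = id from funext cj_one, Finset.image_id]⟩
      mul_mem' := fun {x y} hx hy => ⟨H.mul_mem hx.1 hy.1, by
        rw [show cj (x * y) = cj x ∘ cj y from funext (cj_mul x y), ← Finset.image_image, hy.2, hx.2]⟩
      inv_mem' := fun {x} hx => ⟨H.inv_mem hx.1, by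
        conv_lhs => rw [← hx.2, Finset.image_image,
          show cj x⁻¹ ∘ cj x = id from funext (cj_inv_cj x), Finset.image_id]⟩ }
  have hle : H ⊓ stabilizer G b ≤ L := fun h hh => ⟨hh.1,
    Finset.eq_of_subset_of_card_le (Finset.image_subset_iff.2 (hpres h hh.1 hh.2))
      (Finset.card_image_of_injective S fun _ _ => cj_inj h).ge⟩
  rcases X.max b hb L hle (fun g hg => hg.1) with e | e
  · -- then the stabiliser in `N` fixes `b`
    have hfix : ∀ d ∈ N ⊓ H, d • b = b := fun d hd => by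
      have : d ∈ L := ⟨hd.2, by
        rw [Finset.image_congr (g := id) fun T hT => cj_of_mem D (hS hT) hd.1, Finset.image_id]⟩
      exact (e ▸ this : d ∈ H ⊓ stabilizer G b).2
    obtain ⟨n, hn, rfl⟩ := X.trans a b
    have hno : n⁻¹ ∈ Subgroup.normalizer ((N ⊓ H : Subgroup G) : Set G) := by
      refine Subgroup.mem_normalizer_fintype fun d hd => ?_
      refine ⟨N.mul_mem (N.mul_mem (N.inv_mem hn) hd.1) (N.inv_mem (N.inv_mem hn)), ?_⟩
      show (n⁻¹ * d * n⁻¹⁻¹) • a = a
      rw [inv_inv, mul_smul, mul_smul, hfix d hd, inv_smul_smul]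
    have hHle : H ≤ Subgroup.normalizer ((N ⊓ H : Subgroup G) : Set G) := fun h hh => by
      refine Subgroup.mem_normalizer_fintype fun d hd => ?_
      exact ⟨X.normal.conj_mem d hd.1 h, H.mul_mem (H.mul_mem hh hd.2) (H.inv_mem hh)⟩
    rcases X.coatom.le_iff.1 hHle with e' | e'
    · have : (N ⊓ H).Normal := Subgroup.normalizer_eq_top_iff.1 e'
      rcases X.minimal _ this inf_le_left with e2 | e2
      · exact hD0 e2
      · exact X.not_le (e2 ▸ inf_le_right)
    · exact hb (smul_eq_iff_eq_inv_smul n |>.2 ((e'.le hno : n⁻¹ ∈ H) : n⁻¹ • a = a).symm)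
  · obtain ⟨T, hT⟩ := hne
    obtain ⟨T', hT', hT'S⟩ := hSne
    obtain ⟨g, hg, rfl⟩ := X.factor_trans D (hS hT) hT'
    have hgL : g ∈ L := e.symm ▸ hg
    exact hT'S (hgL.2 ▸ Finset.mem_image_of_mem _ hT)

theorem Setup.conj_smul_base {h t : G} (hh : h • a = a) (he : h • t • a = t • a) :
    t⁻¹ * (h * t * h⁻¹) ∈ stabilizer G a := by
  rw [mem_stabilizer_iff, mul_smul, mul_smul, mul_smul, inv_smul_eq_iff.2 hh.symm, he, inv_smul_smul]

/-- Factors meeting the stabiliser. -/
theorem Setup.product_false [Finite G] (X : Setup N a) (D : Data N) (hD0 : N ⊓ stabilizer G a ≠ ⊥)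
    (hk : 2 ≤ D.s.card) (T₁ : Subgroup G) (hT₁ : T₁ ∈ D.s) (t : G) (ht : t ∈ T₁)
    (hder : ∀ n ∈ N, Data.proj T₁ n = t → ∀ ω : Ω, n • ω ≠ ω) : False := by
  have := X.normal
  obtain ⟨T₂, hT₂, h12⟩ := Finset.exists_mem_ne hk T₁
  refine X.kill D hD0 (b := t • a) (hder t (D.le T₁ hT₁ ht) (D.proj_of_mem hT₁ ht) a) {T₁}
    (by simpa using hT₁) (Finset.singleton_nonempty _) ⟨T₂, hT₂, by simpa using h12⟩ ?_
  intro h hh he T hT
  rw [Finset.mem_singleton] at hT ⊢
  subst hT
  by_contra hne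
  have htN := D.le T hT₁ ht
  have hu : t⁻¹ * (h * t * h⁻¹) ∈ stabilizer G a := Setup.conj_smul_base hh he
  have htcN := X.normal.conj_mem t htN h
  have huN : t⁻¹ * (h * t * h⁻¹) ∈ N := N.mul_mem (N.inv_mem htN) htcN
  refine hder _ (N.inv_mem huN) ?_ a ((stabilizer G a).inv_mem hu)
  rw [D.proj_inv hT₁ huN, D.proj_mul hT₁ (N.inv_mem htN) htcN, D.proj_inv hT₁ htN, D.proj_of_mem hT₁ ht,
    D.proj_of_other hT₁ (D.conj T hT₁ h) hne (mem_map_conj.2 (by simpa [mul_assoc] using ht)), mul_one, inv_inv]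

/-- In the diagonal case every factor has a unique partner. -/
theorem Setup.partner [Finite G] (X : Setup N a) (D : Data N) (hD0 : N ⊓ stabilizer G a ≠ ⊥)
    (hk : 2 ≤ D.s.card) (hsemi : ∀ T ∈ D.s, ∀ x ∈ T, x • a = a → x = 1) (T : Subgroup G) (hT : T ∈ D.s) :
    ∃ T' ∈ D.s, T' ≠ T ∧ (∀ r ∈ T, ∃ r' ∈ T', r * r' ∈ stabilizer G a) ∧
      ∀ r ∈ T, r ≠ 1 → ∀ T'' ∈ D.s, T'' ≠ T → (∃ r' ∈ T'', r * r' ∈ stabilizer G a) → T'' = T' := by
  have := X.normal
  set H := stabilizer G a with hH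
  let R : Subgroup G → G → Prop := fun T' r => r ∈ T ∧ ∃ r' ∈ T', r * r' ∈ H
  have hcover : ∀ r ∈ T, r ≠ 1 → ∃ T' ∈ D.s, T' ≠ T ∧ R T' r := by
    intro r hr hr1
    by_contra hno
    push Not at hno
    have hr' : r⁻¹ ∈ T := T.inv_mem hr
    have hra : r⁻¹ • a ≠ a := fun e => hr1 (inv_eq_one.1 (hsemi T hT _ hr' e))
    obtain ⟨T₂, hT₂, h12⟩ := Finset.exists_mem_ne hk T
    refine X.kill D hD0 hra {T} (by simpa using hT) (Finset.singleton_nonempty _) ⟨T₂, hT₂, by simpa using h12⟩ ?_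
    intro h hh he U hU
    rw [Finset.mem_singleton] at hU ⊢
    subst hU
    by_contra hne
    exact hno _ (D.conj U hT h) hne ⟨hr, _, mem_map_conj.2 (by rw [show h⁻¹ * (h * r⁻¹ * h⁻¹) * h = r⁻¹ by group]; exact hr'),
      by have := Setup.conj_smul_base hh he; rwa [inv_inv] at this⟩
  have hcomm : ∀ T' ∈ D.s, ∀ T'' ∈ D.s, T' ≠ T → T'' ≠ T → T' ≠ T'' → ∀ r q, R T' r → R T'' q → Commute r q := by
    rintro T' hT' T'' hT'' h1 h2 h3 r q ⟨hr, r', hr', hrr⟩ ⟨hq, q', hq', hqq⟩
    have c1 : r' * q = q * r' := D.comm T' hT' T hT h1 r' hr' q hq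
    have c2 : q' * r = r * q' := D.comm T'' hT'' T hT h2 q' hq' r hr
    have c3 : r' * q' = q' * r' := D.comm T' hT' T'' hT'' h3 r' hr' q' hq'
    have e : (r * r') * (q * q') * (r * r')⁻¹ * (q * q')⁻¹ = r * q * r⁻¹ * q⁻¹ := by
      calc _ = r * (r' * q) * q' * r'⁻¹ * r⁻¹ * q'⁻¹ * q⁻¹ := by group
        _ = r * q * (r' * q') * r'⁻¹ * r⁻¹ * q'⁻¹ * q⁻¹ := by rw [c1]; group
        _ = r * q * (q' * r⁻¹) * q'⁻¹ * q⁻¹ := by rw [c3]; group
        _ = r * q * (r⁻¹ * q') * q'⁻¹ * q⁻¹ := by rw [(Commute.inv_right c2).eq]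
        _ = _ := by group
    have h4 : r * q * r⁻¹ * q⁻¹ ∈ H := e ▸ H.mul_mem (H.mul_mem (H.mul_mem hrr hqq) (H.inv_mem hrr)) (H.inv_mem hqq)
    have h5 := hsemi T hT _ (T.mul_mem (T.mul_mem (T.mul_mem hr hq) (T.inv_mem hr)) (T.inv_mem hq)) h4
    rwa [mul_inv_eq_one, mul_inv_eq_iff_eq_mul] at h5
  obtain ⟨x, hx, hx1⟩ := D.exists_ne hT
  obtain ⟨T', hT', hne, hxR⟩ := hcover x hx hx1
  let R' : Subgroup T :=
    { carrier := {r | ∃ r' ∈ T', (r : G) * r' ∈ H}
      one_mem' := ⟨1, T'.one_mem, by simp⟩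
      mul_mem' := by
        rintro ⟨u, hu⟩ ⟨w, hw⟩ ⟨u', hu', e⟩ ⟨w', hw', e'⟩
        refine ⟨u' * w', T'.mul_mem hu' hw', ?_⟩
        have := H.mul_mem e e'
        rwa [show u * u' * (w * w') = u * (u' * w) * w' by group, D.comm T' hT' T hT hne u' hu' w hw,
          show u * (w * u') * w' = u * w * (u' * w') by group] at this
      inv_mem' := by
        rintro ⟨u, hu⟩ ⟨u', hu', e⟩
        refine ⟨u'⁻¹, T'.inv_mem hu', ?_⟩
        have := H.inv_mem e
        rwa [mul_inv_rev, D.comm T' hT' T hT hne _ (T'.inv_mem hu') _ (T.inv_mem hu)] at this }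
  have hall : ∀ r ∈ T, ∃ r' ∈ T', r * r' ∈ H := by
    by_contra hno
    push Not at hno
    obtain ⟨r, hr, hrn⟩ := hno
    -- every element lies in `R'` or centralises `x`
    have hor : ∀ w ∈ T, (∃ w' ∈ T', w * w' ∈ H) ∨ Commute x w := by
      intro w hw
      by_cases hw1 : w = 1
      · exact Or.inr (hw1 ▸ Commute.one_right x)
      obtain ⟨T'', hT'', hne'', hwR⟩ := hcover w hw hw1
      by_cases e : T'' = T'
      · exact Or.inl (e ▸ hwR.2)
      · exact Or.inr (hcomm T' hT' T'' hT'' hne hne'' (Ne.symm e) x w hxR hwR)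
    refine hx1 (D.center T hT x hx fun y hy => ?_)
    by_contra hxy
    rcases hor (r * y) (T.mul_mem hr hy) with h6 | h6
    · rcases hor y hy with h7 | h7
      · have h8 : (⟨r * y, T.mul_mem hr hy⟩ : T) * (⟨y, hy⟩ : T)⁻¹ ∈ R' := R'.mul_mem h6 (R'.inv_mem h7)
        obtain ⟨r', hr', e⟩ := h8
        exact hrn r' hr' (by simpa using e)
      · exact hxy h7
    · rcases hor r hr with ⟨r', hr', e⟩ | h7
      · exact hrn r' hr' e
      · have := h7.inv_right.mul_right h6
        rw [inv_mul_cancel_left] at this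
        exact hxy this
  refine ⟨T', hT', hne, hall, ?_⟩
  intro r hr hr1 T'' hT'' hne'' hrR
  by_contra hne3
  refine hr1 (D.center T hT r hr fun y hy => ?_)
  exact (hcomm T'' hT'' T' hT' hne'' hne hne3 r y ⟨hr, hrR⟩ ⟨hy, hall y hy⟩).eq

/-- Two factors and a diagonal stabiliser. -/
theorem Setup.two_false [Finite G] (X : Setup N a) (D : Data N) {T T' : Subgroup G} (hT : T ∈ D.s) (hT' : T' ∈ D.s)
    (hne : T' ≠ T) (hs : ∀ U ∈ D.s, U = T ∨ U = T') (hsemi : ∀ U ∈ D.s, ∀ x ∈ U, x • a = a → x = 1)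
    (hfull : ∀ r ∈ T, ∃ r' ∈ T', r * r' ∈ stabilizer G a) : False := by
  classical
  have := X.normal
  set H := stabilizer G a with hH
  let M : Subgroup H := N.subgroupOf H
  have : M.Normal := X.normal.comap _
  have hmN : ∀ m : M, ((m : H) : G) ∈ N := fun m => m.2
  let f : M →* T := MonoidHom.mk' (fun m => ⟨Data.proj T ((m : H) : G), Data.proj_mem T _⟩)
    (fun x y => Subtype.ext (D.proj_mul hT (hmN x) (hmN y)))
  have hfinj : Function.Injective f := by
    rw [injective_iff_map_eq_one]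
    intro m hm
    have h1 : Data.proj T ((m : H) : G) = 1 := congrArg Subtype.val hm
    have h2 : ((m : H) : G) = Data.proj T' ((m : H) : G) := proj_ext D (hmN m) (D.le T' hT' (Data.proj_mem T' _))
      fun U hU => by
        rcases hs U hU with rfl | rfl
        · rw [h1, D.proj_of_other hT hT' hne (Data.proj_mem T' _)]
        · rw [D.proj_of_mem hT' (Data.proj_mem U _)]
    have h3 := hsemi T' hT' ((m : H) : G) (h2 ▸ Data.proj_mem T' _) (m : H).2
    exact Subtype.ext (Subtype.ext h3)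
  have hfsurj : Function.Surjective f := by
    rintro ⟨r, hr⟩
    obtain ⟨r', hr', e⟩ := hfull r hr
    refine ⟨⟨⟨r * r', e⟩, N.mul_mem (D.le T hT hr) (D.le T' hT' hr')⟩, Subtype.ext ?_⟩
    show Data.proj T (r * r') = r
    rw [D.proj_mul hT (D.le T hT hr) (D.le T' hT' hr'), D.proj_of_mem hT hr, D.proj_of_other hT hT' hne hr', mul_one]
  have hsimple : IsSimpleGroup M := by
    have := D.simple T hT
    exact (MulEquiv.ofBijective f ⟨hfinj, hfsurj⟩).isSimpleGroup
  have hcM : ∀ x : M, (∀ y, x * y = y * x) → x = 1 := fun x hx => hfinj (by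
    rw [map_one]
    refine Subtype.ext (D.center T hT _ (f x).2 fun y hy => ?_)
    obtain ⟨z, hz⟩ := hfsurj ⟨y, hy⟩
    have h := congrArg f (hx z)
    rw [map_mul, map_mul, hz] at h
    exact congrArg Subtype.val h)
  have : Nontrivial M := hsimple.toNontrivial
  have hperf : commutator M = ⊤ := by
    rcases eq_one_or_top (X := M) (inferInstance : (commutator M).Normal) with e | e
    · exfalso
      obtain ⟨x, hx⟩ := exists_ne (1 : M)
      exact hx (hcM x fun y => ((commutator_eq_bot_iff M).1 e).is_comm.comm x y)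
    · exact e
  obtain ⟨p, hp, hp2, hpd⟩ := exists_odd_prime hcM
  have := Fact.mk hp
  let S : M → Subgroup H := fun m => (stabilizer G ((f m : G) • a)).subgroupOf H
  have hstab : ∀ (m : M) (h : H), h ∈ S m ↔ (f m : G)⁻¹ * ((h : G) * (f m : G) * (h : G)⁻¹) ∈ H := by
    intro m h
    refine ⟨fun hh => Setup.conj_smul_base h.2 hh, fun hh => ?_⟩
    show (h : G) • (f m : G) • a = (f m : G) • a
    have h1 : ((f m : G)⁻¹ * ((h : G) * (f m : G) * (h : G)⁻¹)) • a = a := hh
    rw [mul_smul, mul_smul, mul_smul, inv_smul_eq_iff.2 (show (h : G) • a = a from h.2).symm, inv_smul_eq_iff] at h1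
    exact h1
  have hsame : ∀ (m : M) (h : H), h ∈ S m → (h : G) * (f m : G) * (h : G)⁻¹ ∈ T →
      (h : G) * (f m : G) * (h : G)⁻¹ = (f m : G) := fun m h hh hu =>
    (inv_mul_eq_one.1 (hsemi T hT _ (T.mul_mem (T.inv_mem (f m).2) hu) ((hstab m h).1 hh))).symm
  have hcases : ∀ (m : M) (h : H), cj (h : G) T = T ∨ cj (h : G) T = T' := fun m h => hs _ (D.conj T hT _)
  have hconj : ∀ (m : M) (h : H), (h : G) * (f m : G) * (h : G)⁻¹ ∈ cj (h : G) T := fun m h =>
    mem_map_conj.2 (by simpa [mul_assoc] using (f m).2)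
  refine no_maximal_stabilizers (H := H) (MulAut.conjNormal (H := M)) (fun x => (x : H))
    (fun x => by ext y; rfl) S ?_ ?_ ?_ ?_ hcM p hp2 hpd
    (fun Q hQ hQp => ?_) (no_npc hcM hperf p hpd)
  · intro m hm
    exact X.max' fun e => hm (hfinj (by rw [map_one]; exact Subtype.ext (hsemi T hT _ (f m).2 e)))
  · intro m x
    rw [hstab]
    set u := ((x : H) : G) with hu
    set t := (f m : G) with ht
    have hxN : u ∈ N := hmN x
    have hk := Data.proj_spec D hT hxN t (f m).2
    constructor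
    · intro hh
      have h1 : t⁻¹ * (u * t * u⁻¹) ∈ T := T.mul_mem (T.inv_mem (f m).2) (D.norm T hT u hxN t (f m).2)
      have h2 := hsemi T hT _ h1 hh
      apply hfinj
      rw [map_mul, map_mul]
      refine Subtype.ext ?_
      show Data.proj T u * t = t * Data.proj T u
      rw [inv_mul_eq_one] at h2
      rw [hk] at h2
      conv_rhs => rw [h2]
      group
    · intro hc
      have h2 : Data.proj T u * t = t * Data.proj T u := congrArg Subtype.val
        (by rw [← map_mul, hc, map_mul] : f x * f m = f m * f x)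
      rw [hk, h2, mul_inv_cancel_right, inv_mul_cancel]
      exact H.one_mem
  · intro m i _ h hh
    rw [hstab]
    have hcm : Commute (f m : G)⁻¹ ((h : G) * (f m : G) * (h : G)⁻¹) := by
      refine Commute.inv_left ?_
      rcases hcases m h with e | e
      · rw [hsame m h hh (e.le (hconj m h))]
      · exact D.comm T hT T' hT' (Ne.symm hne) _ (f m).2 _ (e.le (hconj m h))
    have := H.pow_mem ((hstab m h).1 hh) i
    rw [hcm.mul_pow, inv_pow, conj_pow] at this
    simpa [map_pow] using this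
  · intro m h hh
    set u : G := (h : G) * ((m : H) : G) * (h : G)⁻¹ with hu
    have huv : ((MulAut.conjNormal h m : M) : H) = h * (m : H) * h⁻¹ := rfl
    rcases hcases m h with e | e
    · left
      apply hfinj
      refine Subtype.ext ?_
      show Data.proj T u = (f m : G)
      have := D.proj_conj hT (hmN m) (h : G)
      rw [show Subgroup.map (MulAut.conj (h : G)).toMonoidHom T = T from e] at this
      rw [this]; exact hsame m h hh (e.le (hconj m h))
    · right
      set w : G := (f m : G)⁻¹ * ((h : G) * (f m : G) * (h : G)⁻¹) with hw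
      have hwN : w ∈ N := N.mul_mem (N.inv_mem (D.le T hT (f m).2)) (X.normal.conj_mem _ (D.le T hT (f m).2) _)
      have hwH : w ∈ H := (hstab m h).1 hh
      have hc : (h : G) * (f m : G) * (h : G)⁻¹ ∈ T' := e.le (hconj m h)
      have hwinv : (⟨⟨w, hwH⟩, hwN⟩ : M) = m⁻¹ := hfinj (by
        refine Subtype.ext ?_
        rw [map_inv]
        show Data.proj T w = (f m : G)⁻¹
        rw [hw, D.proj_mul hT (N.inv_mem (D.le T hT (f m).2)) (D.le T' hT' hc), D.proj_inv hT (D.le T hT (f m).2),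
          D.proj_of_mem hT (f m).2, D.proj_of_other hT hT' hne hc, mul_one])
      have hp' : Data.proj T' ((MulAut.conjNormal h m : M) : H).1 = Data.proj T' w := by
        show Data.proj T' u = _
        have := D.proj_conj hT (hmN m) (h : G)
        rw [show Subgroup.map (MulAut.conj (h : G)).toMonoidHom T = T' from e] at this
        rw [this, hw, D.proj_mul hT' (N.inv_mem (D.le T hT (f m).2)) (D.le T' hT' hc),
          D.proj_inv hT' (D.le T hT (f m).2), D.proj_of_other hT' hT (Ne.symm hne) (f m).2,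
          D.proj_of_mem hT' hc, inv_one, one_mul]
        rfl
      rw [← hwinv]
      -- two elements of the diagonal with the same projection on `T'`
      refine Subtype.ext (Subtype.ext ?_)
      set z := ((MulAut.conjNormal h m : M) : H).1 with hz
      have hzN : z ∈ N := hmN _
      have hzH : z ∈ H := ((MulAut.conjNormal h m : M) : H).2
      show z = w
      have h9 : z * w⁻¹ = Data.proj T (z * w⁻¹) := proj_ext D (N.mul_mem hzN (N.inv_mem hwN))
        (D.le T hT (Data.proj_mem T _)) fun U hU => by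
          rcases hs U hU with rfl | rfl
          · rw [D.proj_of_mem hT (Data.proj_mem U _)]
          · rw [D.proj_of_other hT' hT (Ne.symm hne) (Data.proj_mem T _),
              D.proj_mul hT' hzN (N.inv_mem hwN), D.proj_inv hT' hwN, hp', mul_inv_cancel]
      have := hsemi T hT (z * w⁻¹) (h9 ▸ Data.proj_mem T _) (H.mul_mem hzH (H.inv_mem hwH))
      rwa [mul_inv_eq_one] at this
  · rcases eq_one_or_top hQ with e | e
    · exact e
    · exact absurd ((e ▸ hQp : IsPGroup p (⊤ : Subgroup M)).of_equiv Subgroup.topEquiv) (not_pgroup hcM p)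

/-- The diagonal case. -/
theorem Setup.diagonal_false [Finite G] (X : Setup N a) (D : Data N) (hD0 : N ⊓ stabilizer G a ≠ ⊥)
    (hk : 2 ≤ D.s.card) (hsemi : ∀ T ∈ D.s, ∀ x ∈ T, x • a = a → x = 1) : False := by
  classical
  obtain ⟨T, hT⟩ := D.nonempty
  obtain ⟨T', hT', hne, hfull, huniq⟩ := X.partner D hD0 hk hsemi T hT
  by_cases hs : ∀ U ∈ D.s, U = T ∨ U = T'
  · exact X.two_false D hT hT' hne hs hsemi hfull
  push Not at hs
  obtain ⟨U, hU, hU1, hU2⟩ := hs
  obtain ⟨t, ht, ht1⟩ := D.exists_ne hT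
  refine X.kill D hD0 (b := t • a) (fun e => ht1 (hsemi T hT t ht e)) {T, T'}
    (by simp [Finset.insert_subset_iff, hT, hT']) ⟨T, by simp⟩ ⟨U, hU, by simp [hU1, hU2]⟩ ?_
  intro h hh he
  have hu : t⁻¹ * (h * t * h⁻¹) ∈ stabilizer G a := Setup.conj_smul_base hh he
  have htc : h * t * h⁻¹ ∈ cj h T := mem_map_conj.2 (by simpa [mul_assoc] using ht)
  have hTcase : cj h T = T ∨ cj h T = T' := by
    by_cases e : cj h T = T
    · exact Or.inl e
    · exact Or.inr (huniq t⁻¹ (T.inv_mem ht) (by simpa using ht1) _ (D.conj T hT h) e ⟨_, htc, hu⟩)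
  -- the image of the pair is again a pair
  obtain ⟨r', hr', hrr⟩ := hfull t ht
  have hr'1 : r' ≠ 1 := fun e => ht1 (hsemi T hT t ht (by simpa [e] using hrr))
  have himg : h * t * h⁻¹ * (h * r' * h⁻¹) ∈ stabilizer G a := by
    have := (stabilizer G a).mul_mem ((stabilizer G a).mul_mem hh hrr) ((stabilizer G a).inv_mem hh)
    simpa [mul_assoc] using this
  have hne' : cj h T' ≠ cj h T := fun e => hne (cj_inj h e)
  have hr'c : h * r' * h⁻¹ ∈ cj h T' := mem_map_conj.2 (by simpa [mul_assoc] using hr')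
  intro V hV
  simp only [Finset.mem_insert, Finset.mem_singleton] at hV ⊢
  rcases hV with e0 | e0 <;> subst V
  · exact hTcase
  rcases hTcase with e | e
  · exact Or.inr (huniq _ (e ▸ htc) (fun h1 => ht1 (conj_eq_one_iff.1 h1)) _ (D.conj _ hT' h)
      (e ▸ hne') ⟨_, hr'c, himg⟩)
  · left
    obtain ⟨T'', hT'', -, -, huniq'⟩ := X.partner D hD0 hk hsemi (cj h T) (D.conj T hT h)
    have h1 : cj h T' = T'' := huniq' _ htc (fun h1 => ht1 (conj_eq_one_iff.1 h1)) _ (D.conj _ hT' h) hne' ⟨_, hr'c, himg⟩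
    have hrt : r' * t ∈ stabilizer G a := by rwa [← D.comm T hT _ hT' (Ne.symm hne) t ht r' hr']
    have h2 : T = T'' := huniq' r' (e.symm ▸ hr') hr'1 T hT (fun e' => hne (e.symm.trans e'.symm)) ⟨t, ht, hrt⟩
    exact h1.trans h2.symm

theorem main [Finite G] [FaithfulSMul G Ω] [Finite Ω] (hΩ : 2 ≤ Nat.card Ω) (hprim : IsPreprimitive G Ω)
    (hep : ∀ (α : Ω) (ω : Ω), IsPreprimitive (stabilizer G α) (orbit (stabilizer G α) ω)) :
    (∃ N : Subgroup G, N.Normal ∧ N ≠ ⊥ ∧ IsMulCommutative N ∧ ∀ ω : Ω, stabilizer N ω = ⊥) ∨ AlmostSimple G := by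
  classical
  have : Nontrivial Ω := Finite.one_lt_card_iff_nontrivial.1 (by omega)
  obtain ⟨N, hN, hN0, hmin, htr⟩ := exists_minimal hprim hΩ
  by_cases hab : IsMulCommutative N
  · refine Or.inl ⟨N, hN, hN0, hab, fun ω => ?_⟩
    rw [Subgroup.eq_bot_iff_forall]
    intro n hn
    exact Subtype.ext ((abelian_regular hN0 hmin hab htr).1 n n.2 ω hn)
  obtain ⟨D⟩ := exists_data N hN0 hmin hab
  obtain ⟨a, b, hab'⟩ := exists_pair_ne Ω
  have hco : IsCoatom (stabilizer G a) := @IsPreprimitive.isCoatom_stabilizer_of_isPreprimitive G _ Ω _ _ hprim a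
  have hmove : ∀ c : Ω, c ≠ a → ¬ stabilizer G a ≤ stabilizer G c := by
    intro c hc hle
    obtain ⟨m, hm, rfl⟩ := htr a c
    have hnorm : m⁻¹ ∈ Subgroup.normalizer (stabilizer G a : Set G) := by
      refine Subgroup.mem_normalizer_fintype fun x hx => ?_
      show (m⁻¹ * x * m⁻¹⁻¹) • a = a
      rw [inv_inv, mul_smul, mul_smul, show x • m • a = m • a from hle hx, inv_smul_smul]
    rcases hco.le_iff.1 (Subgroup.le_normalizer (H := stabilizer G a)) with e | e
    · have hn : (stabilizer G a).Normal := Subgroup.normalizer_eq_top_iff.1 e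
      have hbot : stabilizer G a = ⊥ := by
        by_contra hne
        obtain ⟨x, hx, hxm⟩ := trans_of_normal hprim _ hne a (m • a)
        exact hc (hxm.symm.trans hx)
      rw [hbot] at hco
      apply hab
      refine ⟨⟨fun x y => Subtype.ext ?_⟩⟩
      by_cases hx : (x : G) = 1
      · simp [hx]
      · have htop := hco.2 (Subgroup.zpowers (x : G)) (bot_lt_iff_ne_bot.2 (by simpa using hx))
        obtain ⟨k, hk⟩ := Subgroup.mem_zpowers_iff.1 (htop ▸ Subgroup.mem_top (y : G))
        rw [Subgroup.coe_mul, Subgroup.coe_mul, ← hk]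
        exact ((Commute.refl (x : G)).zpow_right k).eq
    · rw [e] at hnorm
      have : m⁻¹ • a = a := hnorm
      exact hc (inv_smul_eq_iff.1 this).symm
  have X : Setup N a := by
    refine ⟨hN, hN0, hmin, htr, hab, hco, ⟨b, Ne.symm hab'⟩, ?_⟩
    intro c hc L hL1 hL2
    have := hep a c
    have : Nontrivial (orbit (stabilizer G a) c) := by
      obtain ⟨x, hx, hxc⟩ := SetLike.not_le_iff_exists.1 (hmove c hc)
      exact ⟨⟨x • c, ⟨⟨x, hx⟩, rfl⟩⟩, ⟨c, mem_orbit_self c⟩, fun e => hxc (congrArg Subtype.val e)⟩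
    have hcm := IsPreprimitive.isCoatom_stabilizer_of_isPreprimitive (G := stabilizer G a)
      (⟨c, mem_orbit_self c⟩ : orbit (stabilizer G a) c)
    have hle : stabilizer (stabilizer G a) (⟨c, mem_orbit_self c⟩ : orbit (stabilizer G a) c) ≤
        L.subgroupOf (stabilizer G a) := fun g hg => hL1 ⟨g.2, congrArg Subtype.val hg⟩
    rcases hcm.le_iff.1 hle with e | e
    · exact Or.inr (le_antisymm hL2 (Subgroup.subgroupOf_eq_top.1 e))
    · refine Or.inl (le_antisymm (fun g hg => ⟨hL2 hg, ?_⟩) hL1)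
      have : (⟨g, hL2 hg⟩ : stabilizer G a) ∈ L.subgroupOf (stabilizer G a) := hg
      rw [e] at this
      exact congrArg Subtype.val this
  right
  have hcommfree : Subgroup.centralizer (N : Set G) ≠ ⊥ → ∀ n ∈ N, n • a = a → n = 1 := fun hC n hn hna =>
    semiregular_of_comm (trans_of_normal hprim _ hC) (fun c hc => Subgroup.mem_centralizer_iff.1 hc n hn) hna
  have hone : D.s.card < 2 → Subgroup.centralizer (N : Set G) = ⊥ → AlmostSimple G := fun h1 hC => by
    obtain ⟨hs, hna⟩ := D.eq_simple_of_card_one (by have := Finset.card_pos.2 D.nonempty; omega)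
    exact ⟨N, hN, hs, hna, hC⟩
  by_cases hreg : N ⊓ stabilizer G a = ⊥
  · by_cases hC : Subgroup.centralizer (N : Set G) = ⊥
    · rcases Nat.lt_or_ge D.s.card 2 with h | h
      · exact hone h hC
      · exact (X.twisted_false D hreg h).elim
    · exact (X.regular_false D hreg (trans_of_normal hprim _ hC)).elim
  · have hC : Subgroup.centralizer (N : Set G) = ⊥ := by
      by_contra hC
      exact hreg ((Subgroup.eq_bot_iff_forall _).2 fun n hn => hcommfree hC n hn.1 hn.2)
    rcases Nat.lt_or_ge D.s.card 2 with h | h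
    · exact hone h hC
    rcases D.key a htr ⟨b, Ne.symm hab'⟩ with h1 | ⟨-, h2⟩
    · exact (X.diagonal_false D hreg h fun T hT x hx hxa => h1 T hT x hx a hxa).elim
    · obtain ⟨T, hT⟩ := D.nonempty
      obtain ⟨t, ht, hder⟩ := h2 T hT
      exact (X.product_false D hreg h T hT t ht hder).elim

end CfsgLib.ExtPrim
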